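import Cfsg.Agent.H802.FusGroup
import Cfsg.Agent.H802.FusNorm
import Cfsg.Agent.H759.FusNormal
set_option linter.all false

/-!
# Fusion systems of finite groups: fully normalized / fully centralized subgroups (helper973)
-/

set_option autoImplicit false

namespace Cfsg.Agent.H973

open Cfsg Cfsg.FusionSystem Cfsg.Agent.H802

variable {G : Type*} [Group G] [Finite G] {p : ℕ} [Fact p.Prime]

/-- The normalizer of a conjugate. -/
theorem normalizer_map_conj (g : G) (P : Subgroup G) :
    Subgroup.normalizer ((P.map (MulAut.conj g).toMonoidHom : Subgroup G) : Set G) =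
      (Subgroup.normalizer (P : Set G)).map (MulAut.conj g).toMonoidHom := by
  ext x
  constructor
  · intro hx
    refine ⟨g⁻¹ * x * g, ?_, by simp [MulAut.conj_apply, mul_assoc]⟩
    rw [SetLike.mem_coe, Subgroup.mem_normalizer_iff]
    rw [Subgroup.mem_normalizer_iff] at hx
    intro y
    have h1 := hx (g * y * g⁻¹)
    have h2 : ∀ z : G, g * z * g⁻¹ ∈ P.map (MulAut.conj g).toMonoidHom ↔ z ∈ P := by
      intro z
      constructor
      · rintro ⟨w, hw, hwz⟩
        have : g * w * g⁻¹ = g * z * g⁻¹ := hwz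
        have : w = z := mul_left_cancel (mul_right_cancel this)
        rwa [← this]
      · intro hz
        exact ⟨z, hz, rfl⟩
    rw [h2] at h1
    rw [h1, ← h2]
    have : x * (g * y * g⁻¹) * x⁻¹ = g * (g⁻¹ * x * g * y * (g⁻¹ * x * g)⁻¹) * g⁻¹ := by group
    rw [this]
  · rintro ⟨n, hn, rfl⟩
    rw [Subgroup.mem_normalizer_iff]
    rw [SetLike.mem_coe, Subgroup.mem_normalizer_iff] at hn
    intro y
    have h2 : ∀ z : G, g * z * g⁻¹ ∈ P.map (MulAut.conj g).toMonoidHom ↔ z ∈ P := by
      intro z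
      constructor
      · rintro ⟨w, hw, hwz⟩
        have : g * w * g⁻¹ = g * z * g⁻¹ := hwz
        have : w = z := mul_left_cancel (mul_right_cancel this)
        rwa [← this]
      · intro hz
        exact ⟨z, hz, rfl⟩
    have e1 : y = g * (g⁻¹ * y * g) * g⁻¹ := by group
    have e2 : (MulAut.conj g).toMonoidHom n * y * ((MulAut.conj g).toMonoidHom n)⁻¹ =
        g * (n * (g⁻¹ * y * g) * n⁻¹) * g⁻¹ := by
      show g * n * g⁻¹ * y * (g * n * g⁻¹)⁻¹ = _
      group
    rw [e2, h2, ← hn, ← h2, ← e1]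

theorem card_normalizer_map_conj (g : G) (P : Subgroup G) :
    Nat.card (Subgroup.normalizer ((P.map (MulAut.conj g).toMonoidHom : Subgroup G) : Set G)) =
      Nat.card (Subgroup.normalizer (P : Set G)) := by
  rw [normalizer_map_conj, card_map_conj]

/-- In `F_S(G)`, conjugate subgroups are `G`-conjugate. -/
theorem exists_conj_of_isConj {S : Subgroup G} {P Q : Subgroup G}
    (h : (groupFusionSystem S).IsConj P Q) : ∃ g : G, Q = P.map (MulAut.conj g).toMonoidHom := by
  obtain ⟨φ, ⟨-, -, g, hg⟩, rfl⟩ := h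
  refine ⟨g, ?_⟩
  ext y
  constructor
  · rintro ⟨x, rfl⟩
    exact ⟨x, x.2, (hg x).symm⟩
  · rintro ⟨x, hx, rfl⟩
    exact ⟨⟨x, hx⟩, hg ⟨x, hx⟩⟩

theorem isConj_of_map_conj {S : Subgroup G} {P : Subgroup G} (hP : P ≤ S) (g : G)
    (hg : P.map (MulAut.conj g).toMonoidHom ≤ S) :
    (groupFusionSystem S).IsConj P (P.map (MulAut.conj g).toMonoidHom) := by
  refine ⟨(MulAut.conj g).toMonoidHom.comp P.subtype, ⟨hP, fun x => hg ⟨x, x.2, rfl⟩, g, fun x => rfl⟩, ?_⟩
  rw [MonoidHom.range_comp, Subgroup.range_subtype]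

/-- The Sylow statement in terms of `SylIn`. -/
theorem exists_sylow_iff {R K : Subgroup G} (hRK : R ≤ K) :
    (∃ T : Sylow p K, (T : Subgroup K) = R.subgroupOf K) ↔ SylIn p R K := by
  constructor
  · rintro ⟨T, hT⟩
    have := sylIn_of_sylow T
    rw [hT, Subgroup.map_subgroupOf_eq_of_le hRK] at this
    exact this
  · intro h
    exact h.exists_sylow

theorem normalizerIn_top (P : Subgroup G) : normalizerIn ⊤ P = Subgroup.normalizer (P : Set G) := by
  simp [normalizerIn]

theorem SylIn.card_eq {R K : Subgroup G} (h : SylIn p R K) :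
    Nat.card R = p ^ (Nat.card K).factorization p := by
  obtain ⟨T, hT⟩ := h.exists_sylow
  rw [← card_subgroupOf_of_le h.le, ← hT, T.card_eq_multiplicity]

/-- **S5100**. -/
theorem isFullyNormalized_iff_sylow (S : Sylow p G) {P : Subgroup G} (hP : P ≤ S) :
    (groupFusionSystem (S : Subgroup G)).IsFullyNormalized P ↔
      SylIn p (normalizerIn (S : Subgroup G) P) (Subgroup.normalizer (P : Set G)) := by
  constructor
  · intro h
    obtain ⟨n, -, hn, hsyl⟩ := exists_conj_sylIn (sylIn_top_of_sylow S) hP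
    rw [normalizerIn_top] at hsyl
    have h1 := h.2 _ (isConj_of_map_conj hP n hn)
    rw [SylIn.card_eq hsyl, card_normalizer_map_conj] at h1
    exact sylIn_of_card_ge inf_le_right (S.isPGroup'.to_le inf_le_left) h1
  · intro h
    refine ⟨hP, fun Q hQ => ?_⟩
    obtain ⟨g, rfl⟩ := exists_conj_of_isConj hQ
    rw [SylIn.card_eq h, ← card_normalizer_map_conj g P]
    exact card_le_of_isPGroup inf_le_right (S.isPGroup'.to_le inf_le_left)

theorem centralizer_map_conj (g : G) (P : Subgroup G) :
    Subgroup.centralizer ((P.map (MulAut.conj g).toMonoidHom : Subgroup G) : Set G) =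
      (Subgroup.centralizer (P : Set G)).map (MulAut.conj g).toMonoidHom := by
  ext x
  constructor
  · intro hx
    refine ⟨g⁻¹ * x * g, ?_, by simp [MulAut.conj_apply, mul_assoc]⟩
    rw [SetLike.mem_coe, Subgroup.mem_centralizer_iff]
    rw [Subgroup.mem_centralizer_iff] at hx
    intro y hy
    have h1 : g * y * g⁻¹ * x = x * (g * y * g⁻¹) := hx (g * y * g⁻¹) ⟨y, hy, rfl⟩
    calc y * (g⁻¹ * x * g) = g⁻¹ * (g * y * g⁻¹ * x) * g := by group
      _ = g⁻¹ * (x * (g * y * g⁻¹)) * g := by rw [h1]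
      _ = g⁻¹ * x * g * y := by group
  · rintro ⟨n, hn, rfl⟩
    rw [Subgroup.mem_centralizer_iff]
    rintro _ ⟨y, hy, rfl⟩
    have h1 : y * n = n * y := Subgroup.mem_centralizer_iff.1 hn y hy
    show g * y * g⁻¹ * (g * n * g⁻¹) = g * n * g⁻¹ * (g * y * g⁻¹)
    calc g * y * g⁻¹ * (g * n * g⁻¹) = g * (y * n) * g⁻¹ := by group
      _ = g * (n * y) * g⁻¹ := by rw [h1]
      _ = _ := by group

theorem card_centralizer_map_conj (g : G) (P : Subgroup G) :
    Nat.card (Subgroup.centralizer ((P.map (MulAut.conj g).toMonoidHom : Subgroup G) : Set G)) =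
      Nat.card (Subgroup.centralizer (P : Set G)) := by
  rw [centralizer_map_conj, card_map_conj]

/-- **S5101**. -/
theorem isFullyCentralized_iff_sylow (S : Sylow p G) {P : Subgroup G} (hP : P ≤ S) :
    (groupFusionSystem (S : Subgroup G)).IsFullyCentralized P ↔
      SylIn p (centralizerIn (S : Subgroup G) P) (Subgroup.centralizer (P : Set G)) := by
  constructor
  · intro h
    obtain ⟨n, -, hn, hsyl⟩ := exists_conj_sylIn (sylIn_top_of_sylow S) hP
    rw [normalizerIn_top] at hsyl
    set Q := P.map (MulAut.conj n).toMonoidHom with hQ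
    have hsc : SylIn p (normalizerIn (S : Subgroup G) Q ⊓ Subgroup.centralizer (Q : Set G))
        (Subgroup.centralizer (Q : Set G)) := by
      refine hsyl.inf_normal (Subgroup.centralizer_le_normalizer _) ?_
      intro k hk m hm
      rw [Subgroup.mem_centralizer_iff] at hm ⊢
      intro y hy
      have hy' : k⁻¹ * y * k ∈ Q := by
        have := (Subgroup.mem_normalizer_iff.1 (Subgroup.inv_mem _ hk) y).1 hy
        simpa using this
      have h1 := hm _ hy'
      calc y * (k * m * k⁻¹) = k * ((k⁻¹ * y * k) * m) * k⁻¹ := by group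
        _ = k * (m * (k⁻¹ * y * k)) * k⁻¹ := by rw [h1]
        _ = k * m * k⁻¹ * y := by group
    have heq : normalizerIn (S : Subgroup G) Q ⊓ Subgroup.centralizer (Q : Set G) =
        centralizerIn (S : Subgroup G) Q := by
      apply le_antisymm
      · exact fun x hx => ⟨hx.1.1, hx.2⟩
      · exact fun x hx => ⟨⟨hx.1, Subgroup.centralizer_le_normalizer _ hx.2⟩, hx.2⟩
    rw [heq] at hsc
    have h1 := h.2 _ (isConj_of_map_conj hP n hn)
    rw [← hQ, SylIn.card_eq hsc, hQ, card_centralizer_map_conj] at h1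
    exact sylIn_of_card_ge inf_le_right (S.isPGroup'.to_le inf_le_left) h1
  · intro h
    refine ⟨hP, fun Q hQ => ?_⟩
    obtain ⟨g, rfl⟩ := exists_conj_of_isConj hQ
    rw [SylIn.card_eq h, ← card_centralizer_map_conj g P]
    exact card_le_of_isPGroup inf_le_right (S.isPGroup'.to_le inf_le_left)

omit [Finite G] in
/-- **S5102**, for any subgroup `S` containing the normal subgroup `R`. -/
theorem isNormal_of_normal {S R : Subgroup G} [R.Normal] (hRS : R ≤ S) :
    (groupFusionSystem S).IsNormal R := by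
  refine ⟨hRS, ?_⟩
  rintro P φ ⟨hP, hφ, g, hg⟩
  have hval : ∀ x ∈ P ⊔ R, g * x * g⁻¹ ∈ S := by
    have : P ⊔ R ≤ S.comap (MulAut.conj g).toMonoidHom := by
      apply sup_le
      · intro x hx
        have := hφ ⟨x, hx⟩
        rw [hg] at this
        exact this
      · intro x hx
        exact hRS (Subgroup.Normal.conj_mem inferInstance x hx g)
    exact fun x hx => this hx
  refine ⟨(MulAut.conj g).toMonoidHom.comp (P ⊔ R).subtype,
    ⟨sup_le hP hRS, fun x => hval x x.2, g, fun x => rfl⟩, fun x => ?_, ?_⟩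
  · rw [hg]; rfl
  · ext y
    constructor
    · rintro ⟨x, hx, rfl⟩
      exact Subgroup.Normal.conj_mem inferInstance (x : G) hx g
    · intro hy
      refine ⟨⟨g⁻¹ * y * g, ?_⟩, ?_, ?_⟩
      · apply (le_sup_right : R ≤ P ⊔ R)
        have := Subgroup.Normal.conj_mem (inferInstance : R.Normal) y hy g⁻¹
        simpa using this
      · have := Subgroup.Normal.conj_mem (inferInstance : R.Normal) y hy g⁻¹
        show g⁻¹ * y * g ∈ R
        simpa using this
      · show g * (g⁻¹ * y * g) * g⁻¹ = y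
        group

end Cfsg.Agent.H973
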