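import Cfsg.Agent.H759.FusFactor
import Cfsg.Agent.H802.FusGroup
import Cfsg.Agent.H973.FusGrpAux
import Cfsg.Agent.H794.FusTop
set_option linter.all false

/-!
# Morphisms of fusion systems; systems with a model (helper973)

* `stronglyClosed_ker`: the kernel of a morphism is strongly closed (S5131);
* `isFactorSystem_of_surjective`: the target of a surjective morphism is a factor system (S5133);
* `isSaturated_of_isRealizedBy`: a system realized by `ι : S →* G` with `ι(S)` Sylow in the finite group `G` is saturated;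
* `isNormal_of_realized`: a normal subgroup of `G` inside `ι(S)` gives a normal subgroup of the system;
* `isConstrained_of_isModel` (S5103).
-/

set_option autoImplicit false

namespace Cfsg.Agent.H973

open Cfsg Cfsg.FusionSystem

variable {Ω : Type*} [Group Ω] {S : Subgroup Ω} {F : FusionSystem S}

theorem stronglyClosed_ker {Ω' : Type*} [Group Ω'] {S' : Subgroup Ω'} {F' : FusionSystem S'}
    {α : S →* Ω'} (hα : F.IsMorphism F' α) : F.StronglyClosed ((α.ker).map S.subtype) := by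
  refine ⟨Subgroup.map_subtype_le _, fun R hR φ hφ x => ?_⟩
  obtain ⟨φ', -, hP, hφS, hP', he⟩ := hα.2 R φ hφ
  obtain ⟨y, hy, hyx⟩ := hR x.2
  have hxS : (x : Ω) ∈ S := hP x.2
  have h1 : α ⟨x, hxS⟩ = 1 := by
    have : (⟨x, hxS⟩ : S) = y := Subtype.ext hyx.symm
    rw [this]
    exact hy
  have h2 := he x
  have h3 : (⟨α ⟨x, hP x.2⟩, hP' x⟩ : (imageAlong α R)) = 1 := Subtype.ext h1
  rw [h3, map_one] at h2
  exact ⟨⟨φ x, hφS x⟩, h2.symm, rfl⟩

/-- The target of a surjective morphism is the factor system modulo the kernel. -/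
theorem isFactorSystem_of_surjective {Ω' : Type*} [Group Ω'] {S' : Subgroup Ω'}
    {F' : FusionSystem S'} {α : S →* Ω'} (hα : F.IsSurjectiveMorphism F' α) :
    F.IsFactorSystem ((α.ker).map S.subtype) α F' := by
  refine ⟨Subgroup.map_subtype_le _, fun s => ?_, hα.2.1, fun P' φ' => ?_⟩
  · constructor
    · intro h
      exact ⟨s, h, rfl⟩
    · rintro ⟨t, ht, hts⟩
      have : t = s := Subtype.ext hts
      rw [← this]
      exact ht
  · constructor
    · intro h
      have hle : P' ≤ S' := (F'.le_of_mem h).1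
      exact ⟨hle, hα.2.2 P' hle φ' h⟩
    · rintro ⟨hle, φ, hφ, hind⟩
      obtain ⟨φ'', hφ'', hind''⟩ := hα.1.2 _ φ hφ
      obtain ⟨hP, hφS, hP', he⟩ := hind
      obtain ⟨_, _, hP'', he''⟩ := hind''
      have himg : imageAlong α (preimageAlong α P') = P' := by
        ext y
        rw [H759.mem_imageAlong]
        constructor
        · rintro ⟨x, hx, hxp, rfl⟩
          obtain ⟨hx', h⟩ := H759.mem_preimageAlong.1 hxp
          exact h
        · intro hy
          have : y ∈ α.range := by rw [hα.2.1]; exact hle hy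
          obtain ⟨s, rfl⟩ := this
          exact ⟨s, s.2, H759.mem_preimageAlong.2 ⟨s.2, hy⟩, rfl⟩
      refine H802.mem_of_eq_source himg hφ'' ?_
      intro y hy hy'
      obtain ⟨x, hx, hxp, rfl⟩ := H759.mem_imageAlong.1 hy
      have e1 := he ⟨x, hxp⟩
      have e2 := he'' ⟨x, hxp⟩
      exact e1.trans e2.symm

/-- **S5133**: the image of a saturated system under a surjective morphism is saturated. -/
theorem isSaturated_of_surjective [Finite S] {p : ℕ} [Fact p.Prime] (hS : IsPGroup p S)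
    (hF : F.IsSaturated p) {Ω' : Type*} [Group Ω'] {S' : Subgroup Ω'} {F' : FusionSystem S'}
    {α : S →* Ω'} (hα : F.IsSurjectiveMorphism F' α) : F'.IsSaturated p :=
  H759.isSaturated_factor hS hF (stronglyClosed_ker hα.1) (isFactorSystem_of_surjective hα)

/-! ### Systems realized by a finite group -/

/-- A system realized by `ι : S →* G` is the image of the fusion system of `G` on `ι(S)` under `ι⁻¹`. -/
theorem exists_factor_of_isRealizedBy {G : Type*} [Group G] {ι : S →* G} (h : F.IsRealizedBy ι)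
    (T : Subgroup G) (hT : T = ι.range) :
    ∃ θ : T →* Ω, (∀ (s : S) (hs : ι s ∈ T), θ ⟨ι s, hs⟩ = s) ∧ θ.range = S ∧
      (groupFusionSystem T).IsFactorSystem ⊥ θ F := by
  subst hT
  let e : S ≃* ι.range := MonoidHom.ofInjective h.1
  have he : ∀ (s : S) (hs : ι s ∈ ι.range), e.symm ⟨ι s, hs⟩ = s := by
    intro s hs
    rw [MulEquiv.symm_apply_eq]
    rfl
  have hrange : (S.subtype.comp e.symm.toMonoidHom).range = S := by
    ext y
    constructor
    · rintro ⟨t, rfl⟩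
      exact (e.symm t).2
    · intro hy
      exact ⟨e ⟨y, hy⟩, by
        show ((e.symm (e ⟨y, hy⟩) : S) : Ω) = y
        rw [MulEquiv.symm_apply_apply]⟩
  refine ⟨S.subtype.comp e.symm.toMonoidHom, fun s hs => congrArg Subtype.val (he s hs), hrange,
    bot_le, fun t => ?_, hrange, fun P' φ' => ?_⟩
  · constructor
    · intro ht
      have h1 : ((e.symm t : S) : Ω) = 1 := ht
      have h2 : e.symm t = 1 := Subtype.ext h1
      have h3 : t = 1 := by simpa using h2
      rw [h3]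
      exact Subgroup.one_mem _
    · intro ht
      have h3 : t = 1 := Subtype.ext (Subgroup.mem_bot.1 ht)
      rw [h3]
      exact map_one _
  · constructor
    · intro hφ'
      have hle : P' ≤ S := (F.le_of_mem hφ').1
      have hval : ∀ x : P', φ' x ∈ S := (F.le_of_mem hφ').2
      obtain ⟨g, hg⟩ := (h.2 P' hle φ' hval).1 hφ'
      refine ⟨hle, ?_⟩
      set P := preimageAlong (S.subtype.comp e.symm.toMonoidHom) P' with hPdef
      have hPT : P ≤ ι.range := H759.preimageAlong_le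
      have hmem : ∀ x ∈ P, ∃ y : P', ι ⟨y, hle y.2⟩ = x := by
        intro x hx
        obtain ⟨hx', h1⟩ := H759.mem_preimageAlong.1 hx
        obtain ⟨s, rfl⟩ := hx'
        have h2 : ((e.symm ⟨ι s, ⟨s, rfl⟩⟩ : S) : Ω) ∈ P' := h1
        rw [he s ⟨s, rfl⟩] at h2
        exact ⟨⟨s, h2⟩, rfl⟩
      have hval2 : ∀ x ∈ P, g * x * g⁻¹ ∈ ι.range := by
        intro x hx
        obtain ⟨y, rfl⟩ := hmem x hx
        rw [← hg y]
        exact ⟨_, rfl⟩
      refine ⟨(MulAut.conj g).toMonoidHom.comp P.subtype, ⟨hPT, fun x => hval2 x x.2, g, fun x => rfl⟩,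
        hPT, fun x => hval2 x x.2, ?_, ?_⟩
      · rintro ⟨x, hx⟩
        obtain ⟨hx', h1⟩ := H759.mem_preimageAlong.1 hx
        exact h1
      · rintro ⟨x, hx⟩
        obtain ⟨y, rfl⟩ := hmem x hx
        have e1 : (⟨(S.subtype.comp e.symm.toMonoidHom) ⟨ι ⟨y, hle y.2⟩, hPT hx⟩,
            (H759.mem_preimageAlong.1 hx).2⟩ : P') = y := by
          apply Subtype.ext
          show ((e.symm ⟨ι ⟨y, hle y.2⟩, hPT hx⟩ : S) : Ω) = y
          rw [he]
        rw [e1]
        show φ' y = ((e.symm ⟨g * ι ⟨y, hle y.2⟩ * g⁻¹, _⟩ : S) : Ω)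
        have e2 : (⟨g * ι ⟨y, hle y.2⟩ * g⁻¹, hval2 _ hx⟩ : ι.range) =
            ⟨ι ⟨φ' y, hval y⟩, ⟨⟨φ' y, hval y⟩, rfl⟩⟩ := Subtype.ext (hg y).symm
        rw [e2]
        exact (congrArg Subtype.val (he ⟨φ' y, hval y⟩ _)).symm
    · rintro ⟨hle, φ, ⟨hPT, hφT, g, hg⟩, hP, hφS, hP', hind⟩
      have hemem : ∀ (s : S) (hs : ι s ∈ ι.range), (s : Ω) ∈ P' →
          ((e.symm ⟨ι s, hs⟩ : S) : Ω) ∈ P' := by
        intro s hs hsP
        rw [he s hs]
        exact hsP
      have hval : ∀ x : P', φ' x ∈ S := by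
        intro x
        have hx : ι ⟨x, hle x.2⟩ ∈ preimageAlong (S.subtype.comp e.symm.toMonoidHom) P' := by
          rw [H759.mem_preimageAlong]
          exact ⟨⟨⟨x, hle x.2⟩, rfl⟩, hemem ⟨x, hle x.2⟩ _ x.2⟩
        have h1 := hind ⟨_, hx⟩
        have e1 : (⟨(S.subtype.comp e.symm.toMonoidHom) ⟨ι ⟨x, hle x.2⟩, hP hx⟩, hP' ⟨_, hx⟩⟩ : P') = x := by
          apply Subtype.ext
          show ((e.symm ⟨ι ⟨x, hle x.2⟩, hP hx⟩ : S) : Ω) = x
          rw [he]
        rw [e1] at h1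
        rw [h1]
        exact (e.symm _).2
      rw [h.2 P' hle φ' hval]
      refine ⟨g, fun x => ?_⟩
      have hx : ι ⟨x, hle x.2⟩ ∈ preimageAlong (S.subtype.comp e.symm.toMonoidHom) P' := by
        rw [H759.mem_preimageAlong]
        exact ⟨⟨⟨x, hle x.2⟩, rfl⟩, hemem ⟨x, hle x.2⟩ _ x.2⟩
      have h1 := hind ⟨_, hx⟩
      have e1 : (⟨(S.subtype.comp e.symm.toMonoidHom) ⟨ι ⟨x, hle x.2⟩, hP hx⟩, hP' ⟨_, hx⟩⟩ : P') = x := by
        apply Subtype.ext
        show ((e.symm ⟨ι ⟨x, hle x.2⟩, hP hx⟩ : S) : Ω) = x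
        rw [he]
      rw [e1] at h1
      have h2 : (⟨φ' x, hval x⟩ : S) = e.symm ⟨φ ⟨_, hx⟩, hφS ⟨_, hx⟩⟩ := Subtype.ext h1
      have h3 : e ⟨φ' x, hval x⟩ = ⟨φ ⟨_, hx⟩, hφS ⟨_, hx⟩⟩ := by rw [h2, MulEquiv.apply_symm_apply]
      have h4 : ι ⟨φ' x, hval x⟩ = φ ⟨_, hx⟩ := congrArg Subtype.val h3
      rw [h4, hg]

/-- A system realized in a finite group with image a Sylow `p`-subgroup is saturated. -/
theorem isSaturated_of_isRealizedBy {p : ℕ} [Fact p.Prime] {G : Type*} [Group G] [Finite G]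
    {ι : S →* G} (h : F.IsRealizedBy ι) (T : Sylow p G) (hT : (T : Subgroup G) = ι.range) :
    F.IsSaturated p := by
  obtain ⟨θ, -, -, hfac⟩ := exists_factor_of_isRealizedBy h (T : Subgroup G) hT
  exact H759.isSaturated_factor T.isPGroup' (H802.groupFusionSystem_isSaturated T)
    H759.StronglyClosed.bot hfac

/-- A normal subgroup of `G` contained in `ι(S)` gives a subgroup normal in the system realized by `ι`. -/
theorem isNormal_of_realized {G : Type*} [Group G] {ι : S →* G} (h : F.IsRealizedBy ι)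
    {N : Subgroup G} [N.Normal] {Q : Subgroup Ω} (hQS : Q ≤ S) (hQ : (Q.subgroupOf S).map ι = N) :
    F.IsNormal Q := by
  have hQmem : ∀ (s : S), (s : Ω) ∈ Q ↔ ι s ∈ N := by
    intro s
    constructor
    · intro hs
      rw [← hQ]
      exact ⟨s, hs, rfl⟩
    · intro hs
      rw [← hQ] at hs
      obtain ⟨t, ht, hts⟩ := hs
      have : t = s := h.1 hts
      rw [← this]; exact ht
  have hNS : N ≤ ι.range := by
    rw [← hQ]
    rintro _ ⟨x, -, rfl⟩
    exact ⟨x, rfl⟩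
  refine ⟨hQS, fun P φ hφ => ?_⟩
  have hPS : P ≤ S := (F.le_of_mem hφ).1
  have hφS : ∀ x : P, φ x ∈ S := (F.le_of_mem hφ).2
  obtain ⟨g, hg⟩ := (h.2 P hPS φ hφS).1 hφ
  have hsup : P ⊔ Q ≤ S := sup_le hPS hQS
  let e : S ≃* ι.range := MonoidHom.ofInjective h.1
  -- conjugation by g maps ι(P ⊔ Q) into ι(S)
  have hval : ∀ x : (P ⊔ Q : Subgroup Ω), g * ι ⟨x, hsup x.2⟩ * g⁻¹ ∈ ι.range := by
    have hle : P ⊔ Q ≤ ((ι.range.comap (MulAut.conj g).toMonoidHom).comap ι).map S.subtype := by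
      apply sup_le
      · intro x hx
        refine ⟨⟨x, hPS hx⟩, ?_, rfl⟩
        show g * ι ⟨x, hPS hx⟩ * g⁻¹ ∈ ι.range
        rw [← hg ⟨x, hx⟩]
        exact ⟨_, rfl⟩
      · intro x hx
        refine ⟨⟨x, hQS hx⟩, ?_, rfl⟩
        show g * ι ⟨x, hQS hx⟩ * g⁻¹ ∈ ι.range
        exact hNS (Subgroup.Normal.conj_mem inferInstance _ ((hQmem ⟨x, hQS hx⟩).1 hx) g)
    rintro ⟨x, hx⟩
    obtain ⟨y, hy, hyx⟩ := hle hx
    have : y = ⟨x, hsup hx⟩ := Subtype.ext hyx
    rw [← this]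
    exact hy
  let ψ : (P ⊔ Q : Subgroup Ω) →* Ω :=
    S.subtype.comp (e.symm.toMonoidHom.comp
      (((MulAut.conj g).toMonoidHom.comp (ι.comp (Subgroup.inclusion hsup))).codRestrict ι.range hval))
  have hψ : ∀ x : (P ⊔ Q : Subgroup Ω), ∃ hx : ψ x ∈ S, ι ⟨ψ x, hx⟩ = g * ι ⟨x, hsup x.2⟩ * g⁻¹ := by
    intro x
    refine ⟨(e.symm _).2, ?_⟩
    have h1 : e (e.symm ⟨g * ι ⟨x, hsup x.2⟩ * g⁻¹, hval x⟩) = ⟨g * ι ⟨x, hsup x.2⟩ * g⁻¹, hval x⟩ :=
      e.apply_symm_apply _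
    exact congrArg Subtype.val h1
  have hψS : ∀ x, ψ x ∈ S := fun x => (hψ x).1
  refine ⟨ψ, (h.2 _ hsup ψ hψS).2 ⟨g, fun x => (hψ x).2⟩, fun x => ?_, ?_⟩
  · have h1 := (hψ (Subgroup.inclusion le_sup_left x)).2
    have h2 : ι ⟨ψ (Subgroup.inclusion le_sup_left x), hψS _⟩ = ι ⟨φ x, hφS x⟩ := by
      rw [h1, hg x]
      rfl
    exact congrArg Subtype.val (h.1 h2)
  · ext y
    constructor
    · rintro ⟨x, hx, rfl⟩
      have h1 := (hψ x).2
      rw [SetLike.mem_coe, Subgroup.mem_subgroupOf] at hx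
      refine (hQmem ⟨ψ x, hψS x⟩).2 ?_
      rw [h1]
      exact Subgroup.Normal.conj_mem inferInstance _ ((hQmem ⟨x, hsup x.2⟩).1 hx) g
    · intro hy
      have hyN : ι ⟨y, hQS hy⟩ ∈ N := (hQmem ⟨y, hQS hy⟩).1 hy
      have h1 : g⁻¹ * ι ⟨y, hQS hy⟩ * g ∈ N := by
        have := Subgroup.Normal.conj_mem (inferInstance : N.Normal) _ hyN g⁻¹
        simpa using this
      rw [← hQ] at h1
      obtain ⟨z, hz, hzy⟩ := h1
      have hzQ : (z : Ω) ∈ Q := hz
      refine ⟨⟨z, (le_sup_right : Q ≤ P ⊔ Q) hzQ⟩, hzQ, ?_⟩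
      have h2 := (hψ ⟨z, (le_sup_right : Q ≤ P ⊔ Q) hzQ⟩).2
      have h3 : ι ⟨ψ ⟨z, (le_sup_right : Q ≤ P ⊔ Q) hzQ⟩, hψS _⟩ = ι ⟨y, hQS hy⟩ := by
        rw [h2]
        have : (⟨z, hsup ((le_sup_right : Q ≤ P ⊔ Q) hzQ)⟩ : S) = z := rfl
        show g * ι z * g⁻¹ = _
        rw [hzy]
        group
      exact congrArg Subtype.val (h.1 h3)

/-- **S5103**: a system with a model is constrained. -/
theorem isConstrained_of_isModel {p : ℕ} [Fact p.Prime] {G : Type*} [Group G] {ι : S →* G}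
    (hG : F.IsModel p G ι) : F.IsConstrained p := by
  obtain ⟨hfin, hreal, ⟨T, hT⟩, hC⟩ := hG
  have hsat := isSaturated_of_isRealizedBy hreal T hT
  refine ⟨hsat, ?_⟩
  have hnorm : (pCore p G).Normal := H794.pCore_normal G p
  have hcore_le : pCore p G ≤ ι.range := by
    rw [← hT]
    exact H794.pCore_le_sylow T
  set Q : Subgroup Ω := ((pCore p G).comap ι).map S.subtype with hQdef
  have hQS : Q ≤ S := Subgroup.map_subtype_le _
  have hQmap : (Q.subgroupOf S).map ι = pCore p G := by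
    have h1 : Q.subgroupOf S = (pCore p G).comap ι := by
      rw [hQdef, Subgroup.subgroupOf, Subgroup.comap_map_eq_self_of_injective S.subtype_injective]
    rw [h1, Subgroup.map_comap_eq, inf_eq_right.2 hcore_le]
  have hn : F.IsNormal Q := isNormal_of_realized hreal hQS hQmap
  refine ⟨Q, hn, hQS, fun R hR => ?_⟩
  have hRQ : R = Q := by
    obtain ⟨φ, hφ, hr⟩ := hR
    have hle : R ≤ Q := by
      rw [← hr]
      rintro _ ⟨x, rfl⟩
      exact H759.StronglyClosed.apply_mem (H759.IsNormal.stronglyClosed hn) hφ x.2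
    have : Finite S := Finite.of_injective ι hreal.1
    have : Finite Q := H802.finite_of_le hQS
    exact Subgroup.eq_of_le_of_card_ge hle (H802.isConj_card_eq ⟨φ, hφ, hr⟩).le
  subst hRQ
  rintro x ⟨hxS, hxC⟩
  refine ⟨⟨x, hxS⟩, ?_, rfl⟩
  show ι ⟨x, hxS⟩ ∈ pCore p G
  apply hC
  rw [Subgroup.mem_centralizer_iff]
  intro y hy
  have hy' : y ∈ (Q.subgroupOf S).map ι := by rw [hQmap]; exact hy
  obtain ⟨z, hz, rfl⟩ := hy'
  have h1 : (z : Ω) * x = x * z := hxC z hz
  rw [← map_mul, ← map_mul]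
  congr 1
  exact Subtype.ext h1

end Cfsg.Agent.H973
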